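import Groth.Agent.Lib.BiratDense12.Nhd
import Groth.Agent.Lib.Birat12.Fibre
import Groth.Agent.Lib.Spread18.OpenImm
import Groth.Agent.Lib.H12.Specialization
import Mathlib.AlgebraicGeometry.Morphisms.Separated
import Mathlib.AlgebraicGeometry.IdealSheaf.Subscheme
import Mathlib.Topology.Sober

/-!
# Birational morphisms are isomorphisms over a dense open
-/

universe u

set_option autoImplicit false
set_option linter.style.haveILetI false
set_option backward.isDefEq.respectTransparency.types false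

open CategoryTheory AlgebraicGeometry TopologicalSpace

namespace Groth.Agent.BiratDense12

/-- The generic points of the irreducible components. -/
def maxPts (X : Scheme.{u}) : Set X := {x | closure {x} ∈ irreducibleComponents ↥X}

variable {X Y : Scheme.{u}}

lemma eq_of_specializes {x y : X} (hx : x ∈ maxPts X) (h : y ⤳ x) : y = x := by
  have h1 : closure {x} ⊆ closure {y} := specializes_iff_closure_subset.1 h
  have h2 : closure {y} ⊆ closure {x} := hx.2 isIrreducible_singleton.closure h1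
  exact (inseparable_iff_closure_eq.2 (h2.antisymm h1)).eq

lemma exists_mem_maxPts (x : X) : ∃ g ∈ maxPts X, g ⤳ x := by
  obtain ⟨Z, hZ, hsub⟩ := exists_mem_irreducibleComponents_subset_of_isIrreducible ({x} : Set X)
    isIrreducible_singleton
  obtain ⟨g, hg⟩ := QuasiSober.sober (α := X) hZ.1 (isClosed_of_mem_irreducibleComponents Z hZ)
  refine ⟨g, ?_, hg.specializes (hsub rfl)⟩
  show closure {g} ∈ irreducibleComponents ↥X
  rw [hg.def]
  exact hZ

lemma finite_maxPts (h : (irreducibleComponents ↥X).Finite) : (maxPts X).Finite := by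
  refine Set.Finite.of_finite_image (f := fun x => closure {x}) (h.subset ?_) ?_
  · rintro _ ⟨x, hx, rfl⟩
    exact hx
  · intro a _ b _ hab
    exact (inseparable_iff_closure_eq.2 hab).eq

lemma dense_of_maxPts_subset {U : Set X} (h : maxPts X ⊆ U) : Dense U := fun x => by
  obtain ⟨g, hg, hgx⟩ := exists_mem_maxPts x
  exact closure_mono (Set.singleton_subset_iff.2 (h hg)) hgx.mem_closure

/-- The open set of points lying only on the component of a given generic point. -/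
noncomputable def sole (h : (irreducibleComponents ↥X).Finite) (x : X) : X.Opens :=
  ⟨(⋃ g ∈ maxPts X \ {x}, closure {g})ᶜ, by
    rw [isOpen_compl_iff]
    exact ((finite_maxPts h).subset Set.diff_subset).isClosed_biUnion fun g _ => isClosed_closure⟩

lemma mem_sole_iff (h : (irreducibleComponents ↥X).Finite) (x y : X) :
    y ∈ sole h x ↔ ∀ g ∈ maxPts X, g ⤳ y → g = x := by
  show y ∈ (⋃ g ∈ maxPts X \ {x}, closure {g})ᶜ ↔ _
  simp only [Set.mem_compl_iff, Set.mem_iUnion, exists_prop, not_exists, not_and, Set.mem_diff,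
    Set.mem_singleton_iff]
  exact ⟨fun hy g hg hgy => by_contra fun hne => hy g ⟨hg, hne⟩ hgy.mem_closure,
    fun hy g hg hgy => hg.2 (hy g hg.1 (specializes_iff_mem_closure.2 hgy))⟩

lemma mem_sole_self (h : (irreducibleComponents ↥X).Finite) {x : X} (hx : x ∈ maxPts X) :
    x ∈ sole h x :=
  (mem_sole_iff h x x).2 fun _ _ hgx => eq_of_specializes hx hgx

variable (f : X ⟶ Y)

theorem exists_openImmersion (hXfin : (irreducibleComponents ↥X).Finite)
    (hYfin : (irreducibleComponents ↥Y).Finite)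
    (hbij : Set.BijOn (fun x : X => f.base x) (maxPts X) (maxPts Y))
    (hO : ∀ x ∈ maxPts X, ∃ O : X.Opens, x ∈ O ∧ IsOpenImmersion (O.ι ≫ f)) :
    ∃ U : X.Opens, maxPts X ⊆ U ∧ IsOpenImmersion (U.ι ≫ f) := by
  choose O hxO hOi using hO
  let G : maxPts X → X.Opens := fun x => O x.1 x.2 ⊓ sole hXfin x.1 ⊓ f ⁻¹ᵁ sole hYfin (f x.1)
  have hG : ∀ x : maxPts X, x.1 ∈ G x := fun x =>
    ⟨⟨hxO x.1 x.2, mem_sole_self hXfin x.2⟩, mem_sole_self hYfin (hbij.mapsTo x.2)⟩
  let U : X.Opens := ⨆ x, G x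
  refine ⟨U, fun x hx => Opens.mem_iSup.2 ⟨⟨x, hx⟩, hG ⟨x, hx⟩⟩, ?_⟩
  have hloc : ∀ u : U, ∃ x : maxPts X, (u : X) ∈ G x := fun u => Opens.mem_iSup.1 u.2
  have hinj : Function.Injective (U.ι ≫ f) := by
    intro a b hab
    obtain ⟨x, ha⟩ := hloc a
    obtain ⟨x', hb⟩ := hloc b
    have hab' : f a.1 = f b.1 := hab
    have hxx : x = x' := by
      obtain ⟨g, hg, hga⟩ := exists_mem_maxPts (f a.1)
      have h1 := (mem_sole_iff hYfin _ _).1 ha.2 g hg hga
      have h2 := (mem_sole_iff hYfin _ _).1 hb.2 g hg (hab' ▸ hga)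
      exact Subtype.ext (hbij.injOn x.2 x'.2 (h1.symm.trans h2))
    subst hxx
    haveI := hOi x.1 x.2
    have := ((O x.1 x.2).ι ≫ f).isOpenEmbedding.injective
      (a₁ := ⟨a.1, ha.1.1⟩) (a₂ := ⟨b.1, hb.1.1⟩) hab'
    exact Subtype.ext (congrArg (fun z : O x.1 x.2 => (z : X)) this)
  have hst : ∀ u : U, IsIso ((U.ι ≫ f).stalkMap u) := by
    intro u
    obtain ⟨x, hu⟩ := hloc u
    haveI := hOi x.1 x.2
    have h1 : IsIso (f.stalkMap ((O x.1 x.2).ι ⟨u.1, hu.1.1⟩)) :=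
      LocImm12.isIso_stalkMap_of_comp (k := (O x.1 x.2).ι) ⟨u.1, hu.1.1⟩ inferInstance
    rw [Scheme.Hom.stalkMap_comp]
    exact @IsIso.comp_isIso _ _ _ _ _ (f.stalkMap (U.ι u)) (U.ι.stalkMap u) h1 inferInstance
  refine IsOpenImmersion.iff_isIso_stalkMap.2 ⟨?_, hst⟩
  refine Topology.IsOpenEmbedding.of_continuous_injective_isOpenMap (U.ι ≫ f).continuous hinj ?_
  intro s hs
  rw [isOpen_iff_forall_mem_open]
  rintro _ ⟨u, hus, rfl⟩
  obtain ⟨x, hu⟩ := hloc u
  haveI := hOi x.1 x.2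
  refine ⟨((O x.1 x.2).ι ≫ f) '' ((O x.1 x.2).ι ⁻¹' (U.ι '' s)), ?_,
    ((O x.1 x.2).ι ≫ f).isOpenEmbedding.isOpenMap _
      ((U.ι.isOpenEmbedding.isOpenMap _ hs).preimage (O x.1 x.2).ι.continuous),
    ⟨⟨u.1, hu.1.1⟩, ⟨u, hus, rfl⟩, rfl⟩⟩
  rintro _ ⟨z, ⟨v, hv, hvz⟩, rfl⟩
  refine ⟨v, hv, ?_⟩
  show f (U.ι v) = f ((O x.1 x.2).ι z)
  rw [hvz]

theorem exists_isIso_resLE (hXfin : (irreducibleComponents ↥X).Finite)
    (hYfin : (irreducibleComponents ↥Y).Finite)
    (hbij : Set.BijOn (fun x : X => f.base x) (maxPts X) (maxPts Y))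
    (hiso : ∀ x ∈ maxPts X, IsIso (f.stalkMap x))
    (hf : (LocallyOfFiniteType f ∧ IsReduced Y) ∨ LocallyOfFinitePresentation f) :
    ∃ (U : X.Opens) (V : Y.Opens) (h : U ≤ f ⁻¹ᵁ V), maxPts X ⊆ U ∧ maxPts Y ⊆ V ∧
      IsIso (f.resLE V U h) := by
  obtain ⟨U, hU, hi⟩ := exists_openImmersion f hXfin hYfin hbij fun x hx => by
    rcases hf with ⟨_, _⟩ | _
    · haveI := Spread18.isGermInjective Y hYfin (f x)
      exact Spread18.exists_openImmersion_nhd f x (hiso x hx)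
    · exact exists_openImmersion_nhd f x (hiso x hx)
  haveI := hi
  let V := (U.ι ≫ f).opensRange
  have e : U ≤ f ⁻¹ᵁ V := fun x hx => ⟨⟨x, hx⟩, rfl⟩
  refine ⟨U, V, e, hU, fun y hy => ?_, ?_⟩
  · obtain ⟨x, hx, rfl⟩ := hbij.surjOn hy
    exact ⟨⟨x, hU hx⟩, rfl⟩
  · haveI : IsOpenImmersion (f.resLE V U e ≫ V.ι) := by
      rw [Scheme.Hom.resLE_comp_ι]; infer_instance
    haveI : IsOpenImmersion (f.resLE V U e) := IsOpenImmersion.of_comp (f.resLE V U e) V.ι
    haveI : Surjective (f.resLE V U e) := ⟨fun ⟨y, z, hz⟩ => ⟨z, V.ι.isOpenEmbedding.injective (by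
      rw [← Scheme.Hom.comp_apply, Scheme.Hom.resLE_comp_ι]
      exact hz)⟩⟩
    exact (isIso_iff_isOpenImmersion_and_epi_base _).2
      ⟨inferInstance, (TopCat.epi_iff_surjective _).2 (f.resLE V U e).surjective⟩

theorem exists_isIso_restrict_of_birational (hXfin : (irreducibleComponents ↥X).Finite)
    (hYfin : (irreducibleComponents ↥Y).Finite)
    (hbij : Set.BijOn (fun x : X => f.base x) (maxPts X) (maxPts Y))
    (hiso : ∀ x ∈ maxPts X, IsIso (f.stalkMap x))
    (hf₁ : QuasiCompact f ∨ IsSeparated f)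
    (hf₂ : (LocallyOfFiniteType f ∧ IsReduced Y) ∨ LocallyOfFinitePresentation f) :
    ∃ V : Y.Opens, maxPts Y ⊆ V ∧ IsIso (f ∣_ V) := by
  obtain ⟨U, V, e, hU, hV, hi⟩ := exists_isIso_resLE f hXfin hYfin hbij hiso hf₂
  haveI := hi
  suffices h : ∃ W : Y.Opens, maxPts Y ⊆ W ∧ W ≤ V ∧ f ⁻¹ᵁ W ≤ U by
    obtain ⟨W, hW, hWV, hWU⟩ := h
    refine ⟨W, hW, ?_⟩
    haveI : IsOpenImmersion (U.ι ≫ f) := by
      rw [← Scheme.Hom.resLE_comp_ι f e]; infer_instance
    haveI : IsOpenImmersion (f ∣_ W) := by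
      haveI : IsOpenImmersion ((f ∣_ W) ≫ W.ι) := by
        rw [morphismRestrict_ι, ← Scheme.homOfLE_ι _ hWU, Category.assoc]
        infer_instance
      exact IsOpenImmersion.of_comp (f ∣_ W) W.ι
    refine (isIso_iff_isOpenImmersion_and_epi_base _).2
      ⟨inferInstance, (TopCat.epi_iff_surjective _).2 ?_⟩
    rintro ⟨y, hy⟩
    obtain ⟨z, hz⟩ := (f.resLE V U e).surjective ⟨y, hWV hy⟩
    have hzy : f z.1 = y := by
      have := congrArg (fun t => V.ι t) hz
      simp only [← Scheme.Hom.comp_apply, Scheme.Hom.resLE_comp_ι] at this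
      exact this
    refine ⟨⟨z.1, show f z.1 ∈ W by rwa [hzy]⟩, W.ι.isOpenEmbedding.injective ?_⟩
    rw [← Scheme.Hom.comp_apply, morphismRestrict_ι]
    exact hzy
  rcases hf₁ with _ | _
  · let Z : X.IdealSheafData :=
      Scheme.IdealSheafData.vanishingIdeal ⟨(U : Set X)ᶜ, U.2.isClosed_compl⟩
    let C := closure (Set.range (Z.subschemeι ≫ f))
    refine ⟨V ⊓ ⟨Cᶜ, isClosed_closure.isOpen_compl⟩, fun y hy => ⟨hV hy, fun hyC => ?_⟩,
      inf_le_left, fun x hx => by_contra fun hxU => ?_⟩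
    · obtain ⟨t, ht⟩ := H12.exists_specializes_of_mem_closure_range (Z.subschemeι ≫ f) y hyC
      have ht' : (Z.subschemeι ≫ f) t = y := eq_of_specializes hy ht
      obtain ⟨g, hg, hgt⟩ := exists_mem_maxPts (Z.subschemeι t)
      have hfg : f g = y := eq_of_specializes hy (ht' ▸ hgt.map f.continuous)
      haveI := hiso g hg
      have := Birat12.eq_of_stalkSpecializes f hgt (hfg.trans ht'.symm)
      have hmem : Z.subschemeι t ∈ (U : Set X)ᶜ := by
        have : Z.subschemeι t ∈ Set.range Z.subschemeι := ⟨t, rfl⟩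
        rwa [Scheme.IdealSheafData.range_subschemeι,
          Scheme.IdealSheafData.coe_support_vanishingIdeal] at this
      exact hmem (this ▸ hU hg)
    · refine hx.2 (subset_closure ?_)
      obtain ⟨t, ht⟩ : x ∈ Set.range Z.subschemeι := by
        rw [Scheme.IdealSheafData.range_subschemeι, Scheme.IdealSheafData.coe_support_vanishingIdeal]
        exact hxU
      exact ⟨t, congrArg f ht⟩
  · refine ⟨V, hV, le_rfl, ?_⟩
    let i := X.homOfLE e
    haveI : IsSeparated (f ∣_ V) := IsZariskiLocalAtTarget.restrict ‹_› V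
    haveI : IsClosedImmersion (i ≫ f ∣_ V) := (inferInstance : IsClosedImmersion (f.resLE V U e))
    haveI : IsClosedImmersion i := IsClosedImmersion.of_comp i (f ∣_ V)
    intro x hx
    by_contra hxU
    have ho : IsOpen ((f ⁻¹ᵁ V).ι '' (Set.range i)ᶜ) :=
      (f ⁻¹ᵁ V).ι.isOpenEmbedding.isOpenMap _ i.isClosedEmbedding.isClosed_range.isOpen_compl
    have hxm : x ∈ (f ⁻¹ᵁ V).ι '' (Set.range i)ᶜ := ⟨⟨x, hx⟩, fun ⟨u, hu⟩ => hxU (by
      have := congrArg (fun t => (f ⁻¹ᵁ V).ι t) hu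
      simp only [i, ← Scheme.Hom.comp_apply, Scheme.homOfLE_ι] at this
      exact (show u.1 = x from this) ▸ u.2), rfl⟩
    obtain ⟨g, hg, hgx⟩ := exists_mem_maxPts x
    obtain ⟨w, hw, hwg⟩ := hgx.mem_open ho hxm
    refine hw ⟨⟨g, hU hg⟩, (f ⁻¹ᵁ V).ι.isOpenEmbedding.injective ?_⟩
    rw [hwg, ← Scheme.Hom.comp_apply, Scheme.homOfLE_ι]
    rfl

end Groth.Agent.BiratDense12
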