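import Groth.Agent.Lib.LocImmSt12.Basic
import Mathlib.AlgebraicGeometry.Morphisms.FinitePresentation
import Mathlib.AlgebraicGeometry.Morphisms.IsIso
import Mathlib.RingTheory.FinitePresentation

/-!
# A finitely presented morphism with an isomorphism of local rings is an open immersion nearby
-/

universe u

set_option autoImplicit false
set_option linter.style.haveILetI false
set_option backward.isDefEq.respectTransparency.types false

open CategoryTheory AlgebraicGeometry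

namespace Groth.Agent.BiratDense12

theorem exists_isIso_restrict {U V : Scheme.{u}} (i : U ⟶ V) [IsClosedImmersion i]
    [LocallyOfFinitePresentation i] (z : U) (h : IsIso (i.stalkMap z)) :
    ∃ W : V.Opens, i z ∈ W ∧ IsIso (i ∣_ W) := by
  obtain ⟨A, hA, hzA, -⟩ := exists_isAffineOpen_mem_and_subset (x := i z) (U := ⊤) trivial
  have hB : IsAffineOpen (i ⁻¹ᵁ A) := hA.preimage i
  let φ : Γ(V, A) →+* Γ(U, i ⁻¹ᵁ A) := (i.app A).hom
  have hsurj : Function.Surjective φ := i.app_surjective A hA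
  have hfp : φ.FinitePresentation := by
    have := i.finitePresentation_appLE hA hB le_rfl
    rwa [← Scheme.Hom.app_eq_appLE] at this
  obtain ⟨G, hG⟩ : (RingHom.ker φ).FG := by
    algebraize [φ]
    exact Algebra.FinitePresentation.ker_fG_of_surjective (Algebra.ofId Γ(V, A) Γ(U, i ⁻¹ᵁ A)) hsurj
  letI := V.presheaf.algebra_section_stalk ⟨i z, hzA⟩
  haveI := hA.isLocalization_stalk ⟨i z, hzA⟩
  let p := (hA.primeIdealOf ⟨i z, hzA⟩).asIdeal
  have hs : ∀ a ∈ G, ∃ s : Γ(V, A), s ∉ p ∧ s * a = 0 := by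
    intro a ha
    have ha0 : φ a = 0 := RingHom.mem_ker.1 (hG ▸ Ideal.subset_span ha)
    have h1 : i.stalkMap z (V.presheaf.germ A (i z) hzA a) = 0 := by
      rw [Scheme.Hom.germ_stalkMap_apply]
      exact (congrArg _ ha0).trans (map_zero _)
    have h2 : algebraMap Γ(V, A) (V.presheaf.stalk (i z)) a = 0 := by
      apply (ConcreteCategory.bijective_of_isIso (i.stalkMap z)).1
      rw [map_zero]
      exact h1
    obtain ⟨⟨s, hs⟩, hsa⟩ := (IsLocalization.map_eq_zero_iff p.primeCompl _ a).1 h2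
    exact ⟨s, hs, hsa⟩
  choose! s hs hsa using hs
  let S := ∏ a ∈ G, s a
  have hS : S ∉ p := fun hh => by
    obtain ⟨a, ha, h'⟩ := (Ideal.IsPrime.prod_mem_iff (s := G)).1 hh
    exact hs a ha h'
  have hker : ∀ a, φ a = 0 → S * a = 0 := by
    intro a ha
    have : a ∈ Ideal.span (G : Set Γ(V, A)) := hG ▸ RingHom.mem_ker.2 ha
    clear ha
    induction this using Submodule.span_induction with
    | mem x hx =>
      obtain ⟨d, hd⟩ := Finset.dvd_prod_of_mem s hx
      show S * x = 0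
      rw [show S = s x * d from hd, mul_comm (s x) d, mul_assoc, hsa x hx, mul_zero]
    | zero => exact mul_zero _
    | add x y _ _ hx hy => rw [mul_add, hx, hy, add_zero]
    | smul c x _ hx => rw [smul_eq_mul, mul_left_comm, hx, mul_zero]
  refine ⟨V.basicOpen S, ?_, ?_⟩
  · rw [V.mem_basicOpen S (i z) hzA]
    exact IsLocalization.map_units (M := p.primeCompl) (V.presheaf.stalk (i z)) ⟨S, hS⟩
  haveI : IsAffine (V.basicOpen S : Scheme.{u}) := hA.basicOpen S
  haveI : IsAffine (i ⁻¹ᵁ V.basicOpen S : Scheme.{u}) := (hA.basicOpen S).preimage i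
  have hbij : Function.Bijective (i.app (V.basicOpen S)) := by
    refine ⟨?_, i.app_surjective _ (hA.basicOpen S)⟩
    rw [injective_iff_map_eq_zero]
    intro c hc
    haveI := hA.isLocalization_basicOpen S
    obtain ⟨⟨a, ⟨_, n, rfl⟩⟩, hca⟩ := IsLocalization.surj (Submonoid.powers S) c
    have hres : algebraMap Γ(V, A) Γ(V, V.basicOpen S) =
        (V.presheaf.map (homOfLE (V.basicOpen_le S)).op).hom := rfl
    have h1 : i.app (V.basicOpen S) (algebraMap Γ(V, A) Γ(V, V.basicOpen S) a) = 0 := by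
      rw [← hca, map_mul, hc, zero_mul]
    rw [hres, ← CommRingCat.comp_apply, i.naturality, CommRingCat.comp_apply] at h1
    letI : Algebra Γ(U, i ⁻¹ᵁ A) Γ(U, i ⁻¹ᵁ V.basicOpen S) :=
      (U.presheaf.map ((TopologicalSpace.Opens.map i.base).map (homOfLE (V.basicOpen_le S))).op).hom.toAlgebra
    haveI : IsLocalization.Away (i.app A S) Γ(U, i ⁻¹ᵁ V.basicOpen S) :=
      hB.isLocalization_of_eq_basicOpen (i.app A S)
        ((TopologicalSpace.Opens.map i.base).map (homOfLE (V.basicOpen_le S))) (Scheme.preimage_basicOpen i S)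
    have h2 : algebraMap Γ(U, i ⁻¹ᵁ A) Γ(U, i ⁻¹ᵁ V.basicOpen S) (φ a) = 0 := h1
    obtain ⟨⟨_, m, rfl⟩, hm⟩ :=
      (IsLocalization.map_eq_zero_iff (Submonoid.powers (i.app A S)) _ _).1 h2
    have h3 : φ (S ^ m * a) = 0 := by
      rw [map_mul, map_pow]; exact hm
    have h4 := hker _ h3
    have hu : IsUnit (algebraMap Γ(V, A) Γ(V, V.basicOpen S) S) := IsLocalization.Away.algebraMap_isUnit S
    have h5 := congrArg (algebraMap Γ(V, A) Γ(V, V.basicOpen S)) h4
    rw [← mul_assoc, ← pow_succ', map_mul, map_pow, map_zero, ← hca] at h5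
    have h6 := (hu.pow (m + 1)).mul_right_eq_zero.1 h5
    rw [map_pow] at h6
    exact (hu.pow n).mul_left_eq_zero.1 h6
  haveI : IsIso (i.app (V.basicOpen S)) := (ConcreteCategory.isIso_iff_bijective _).2 hbij
  haveI : IsIso (i ∣_ V.basicOpen S).appTop := by
    have key : ∀ W' : V.Opens, W' = V.basicOpen S → IsIso (i.app W') := by
      rintro W' rfl; infer_instance
    haveI := key _ (Scheme.Opens.ι_image_top (V.basicOpen S))
    rw [morphismRestrict_appTop]
    exact @IsIso.comp_isIso _ _ _ _ _ _ _ this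
      (Functor.map_isIso U.presheaf (eqToHom (image_morphismRestrict_preimage i (V.basicOpen S) ⊤)).op)
  exact ((MorphismProperty.isomorphisms Scheme.{u}).arrow_mk_iso_iff
    (arrowIsoSpecΓOfIsAffine (i ∣_ V.basicOpen S))).2
    (inferInstanceAs (IsIso (Spec.map (i ∣_ V.basicOpen S).appTop)))

theorem exists_openImmersion_nhd {X Y : Scheme.{u}} (f : X ⟶ Y) [LocallyOfFinitePresentation f] (x : X)
    (hx : IsIso (f.stalkMap x)) : ∃ O : X.Opens, x ∈ O ∧ IsOpenImmersion (O.ι ≫ f) := by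
  obtain ⟨U, V, e, hxU, hcl⟩ := LocImmSt12.exists_isClosedImmersion_resLE f x
    (ConcreteCategory.bijective_of_isIso (f.stalkMap x)).2
  haveI := hcl
  let i := f.resLE V U e
  have hst : IsIso (i.stalkMap ⟨x, hxU⟩) := by
    have h2 : IsIso ((U.ι ≫ f).stalkMap ⟨x, hxU⟩) := by
      rw [Scheme.Hom.stalkMap_comp]
      exact @IsIso.comp_isIso _ _ _ _ _ (f.stalkMap (U.ι ⟨x, hxU⟩)) (U.ι.stalkMap ⟨x, hxU⟩) hx inferInstance
    have h3 : IsIso ((i ≫ V.ι).stalkMap ⟨x, hxU⟩) := by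
      have : ∀ (g : (U : Scheme.{u}) ⟶ Y), g = U.ι ≫ f → IsIso (g.stalkMap ⟨x, hxU⟩) := by
        rintro g rfl; exact h2
      exact this _ (Scheme.Hom.resLE_comp_ι f e)
    rw [Scheme.Hom.stalkMap_comp] at h3
    exact @IsIso.of_isIso_comp_left _ _ _ _ _ (V.ι.stalkMap (i ⟨x, hxU⟩)) (i.stalkMap ⟨x, hxU⟩) _ h3
  obtain ⟨W, hW, hiso⟩ := exists_isIso_restrict i ⟨x, hxU⟩ hst
  haveI := hiso
  let O : X.Opens := U.ι ''ᵁ (i ⁻¹ᵁ W)
  refine ⟨O, ⟨⟨x, hxU⟩, hW, rfl⟩, ?_⟩
  have h : IsOpenImmersion ((i ⁻¹ᵁ W).ι ≫ U.ι ≫ f) := by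
    rw [← Scheme.Hom.resLE_comp_ι f e, ← Category.assoc, ← morphismRestrict_ι, Category.assoc]
    infer_instance
  have hO : (U.ι.isoImage (i ⁻¹ᵁ W)).hom ≫ O.ι = (i ⁻¹ᵁ W).ι ≫ U.ι :=
    IsOpenImmersion.isoOfRangeEq_hom_fac ..
  rw [← MorphismProperty.cancel_left_of_respectsIso @IsOpenImmersion (U.ι.isoImage (i ⁻¹ᵁ W)).hom,
    ← Category.assoc, hO, Category.assoc]
  exact h

end Groth.Agent.BiratDense12
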